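import Mathlib
import Cfsg.Prelude.Def_GeometricClasses
import Cfsg.Agent.Lib.Helper27.ASC.Defs
import Cfsg.Agent.Lib.Helper19.ASG.Defs

/-!
# Project ASP (leader: helper18) : S5662, the subgroup structure of `Sp_2m(F)` (Aschbacher, containment form)

Shared vocabulary, on top of `Cfsg.Agent.Lib.Helper27.ASC` (`NormalIn`, `Irr`, `AbsIrr`, `centAlg`, `AllNormalAbsIrr`,
`MinNonscalar`) and `Cfsg.Agent.Lib.Helper19.ASG` (`Inv`):

* `isoGL f` : the isometry group of a two-argument form `f` on `F^ι`, as a subgroup of `GL ι F`;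
* `InSpClassG m f M` : the frozen `InSymplecticClass m F M` with an arbitrary index type `ι` and an arbitrary form `f`
  in place of `Fin m ⊕ Fin m` and `sympForm m F` (`inSymplecticClass_iff` : they agree by `Iff.rfl`);
* `InSp m f H` : the goal, `H` lies in a member of the class;
* the eleven constructors `inSp_of_*`.
-/

set_option autoImplicit false

namespace Cfsg.Agent.Lib.Helper18.ASP

open Cfsg Cfsg.Geo Cfsg.Agent.Lib.Helper27.ASC Cfsg.Agent.Lib.Helper19.ASG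
open scoped MatrixGroups Matrix Kronecker

variable {ι : Type} [Fintype ι] [DecidableEq ι] {F : Type*} [Field F]

/-- the isometry group of the two-argument form `f` -/
def isoGL (f : (ι → F) → (ι → F) → F) : Subgroup (GL ι F) :=
  preserving (glToMat ι F) f

theorem mem_isoGL_iff (f : (ι → F) → (ι → F) → F) (g : GL ι F) :
    g ∈ isoGL f ↔ ∀ u v, f ((g : Matrix ι ι F) *ᵥ u) ((g : Matrix ι ι F) *ᵥ v) = f u v :=
  Iff.rfl

theorem isoGL_sympForm (m : ℕ) : isoGL (sympForm m F) = spGL m F := rfl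

variable [Fintype F]

/-- `InSymplecticPartialClass` for an arbitrary index type and form -/
def InSpPartialClassG (m : ℕ) (f : (ι → F) → (ι → F) → F) (M : Subgroup (GL ι F)) : Prop :=
  let I := isoGL f
  (∃ W : Submodule F (ι → F), W ≠ ⊥ ∧ IsTotallySingularFor f W ∧ M = subspaceStabilizer W ⊓ I) ∨
  (∃ W : Submodule F (ι → F), W ≠ ⊥ ∧ IsNondegenerateOn f W ∧ Module.finrank F W < m ∧
      M = subspaceStabilizer W ⊓ I) ∨
  (∃ (t k : ℕ) (D : Fin t → Submodule F (ι → F)), IsNondegenerateMDecomposition f k D ∧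
      M = decompositionStabilizer D ⊓ I) ∨
  (∃ (D : Fin 2 → Submodule F (ι → F)), Odd (Fintype.card F) ∧ IsMDecomposition m D ∧
      (∀ i, IsTotallySingularFor f (D i)) ∧ M = decompositionStabilizer D ⊓ I) ∨
  (∃ (F₀ : Subfield F) (r : ℕ) (P : GL ι F) (ζ : F), r.Prime ∧ Fintype.card F = Nat.card F₀ ^ r ∧ ζ ≠ 0 ∧
      IsFormRationalStructure f F₀ ζ P ∧ M = subfieldSubgroup F₀ P ⊓ I) ∨
  (∃ (R : Subgroup (GL ι F)) (p k : ℕ), IsSymplecticTypeGroup 2 R ∧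
      ActsAbsolutelyIrreducibly (matrixSet R) ∧ R ≤ similarityGroup f ∧ p.Prime ∧ Odd p ∧ Fintype.card F = p ∧
      Nat.card R = 2 ^ (1 + 2 * k) ∧ Nat.card (Subgroup.center R) = 2 ∧ IsOfMinusType k R ∧
      M = subgroupNormalizer R ⊓ I) ∨
  (∃ Q : (ι → F) → F, ¬ Odd (Fintype.card F) ∧ IsNondegenerateQuadraticForm Q ∧
      (∀ u v, QuadraticMap.polar Q u v = f u v) ∧ M = quadSimilarityGroup Q ⊓ I)

/-- `InSymplecticClass` for an arbitrary index type and form -/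
def InSpClassG (m : ℕ) (f : (ι → F) → (ι → F) → F) (M : Subgroup (GL ι F)) : Prop :=
  let I := isoGL f
  InSpPartialClassG m f M ∨
  (∃ (r : ℕ) (K : Subalgebra F (Matrix ι ι F)), r.Prime ∧ IsFieldSubalgebra r K ∧
      IsSelfAdjointFor f K ∧ (∀ k ∈ K, ∀ v, f (k *ᵥ v) v = 0) ∧ M = subalgebraNormalizer K ⊓ I) ∨
  (∃ K : Subalgebra F (Matrix ι ι F), Odd (Fintype.card F) ∧ IsFieldSubalgebra 2 K ∧
      IsAdjointClosedFor f K ∧ ¬ IsSelfAdjointFor f K ∧ M = subalgebraNormalizer K ⊓ I) ∨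
  (∃ (n₁ n₂ : ℕ) (e : ι ≃ Fin n₁ × Fin n₂) (P : GL ι F)
      (f₁ : (Fin n₁ → F) → (Fin n₁ → F) → F) (f₂ : (Fin n₂ → F) → (Fin n₂ → F) → F),
      Odd (Fintype.card F) ∧ 3 ≤ n₂ ∧ IsSymplecticForm f₁ ∧ IsSymmetricForm f₂ ∧
      IsTensorFormStructure id f f₁ f₂ e P ∧ M = tensorProductSubgroup n₁ n₂ e P ⊓ I) ∨
  (∃ (k t : ℕ) (e : ι ≃ (Fin t → Fin k)) (P : GL ι F) (f₁ : (Fin k → F) → (Fin k → F) → F),
      Odd (Fintype.card F) ∧ Odd t ∧ 3 ≤ t ∧ ¬ (Fintype.card F = 3 ∧ k = 2) ∧ IsSymplecticForm f₁ ∧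
      IsTensorPowerFormStructure id f f₁ e P ∧ M = tensorWreathSubgroup k t e P ⊓ I)

/-- the frozen class is the instance `ι = Fin m ⊕ Fin m`, `f = sympForm m F` -/
theorem inSymplecticClass_iff (m : ℕ) (M : Subgroup (GL (Fin m ⊕ Fin m) F)) :
    InSymplecticClass m F M ↔ InSpClassG m (sympForm m F) M :=
  Iff.rfl

/-- the goal: `H` lies in a member of the symplectic class of the form `f` -/
def InSp (m : ℕ) (f : (ι → F) → (ι → F) → F) (H : Subgroup (GL ι F)) : Prop :=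
  ∃ M : Subgroup (GL ι F), InSpClassG m f M ∧ H ≤ M

theorem inSp_mono {m : ℕ} {f : (ι → F) → (ι → F) → F} {H K : Subgroup (GL ι F)} (h : H ≤ K)
    (hK : InSp m f K) : InSp m f H := by
  obtain ⟨M, hM, hKM⟩ := hK
  exact ⟨M, hM, h.trans hKM⟩

section constructors

variable {m : ℕ} {f : (ι → F) → (ι → F) → F} {H : Subgroup (GL ι F)}

/-- class 1, totally singular subspace -/
theorem inSp_of_ts (hI : H ≤ isoGL f) (W : Submodule F (ι → F)) (h0 : W ≠ ⊥) (hW : IsTotallySingularFor f W)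
    (h : H ≤ subspaceStabilizer W) : InSp m f H :=
  ⟨_, Or.inl (Or.inl ⟨W, h0, hW, rfl⟩), le_inf h hI⟩

/-- class 1, non-degenerate subspace of dimension less than `m` -/
theorem inSp_of_nd (hI : H ≤ isoGL f) (W : Submodule F (ι → F)) (h0 : W ≠ ⊥) (hW : IsNondegenerateOn f W)
    (hd : Module.finrank F W < m) (h : H ≤ subspaceStabilizer W) : InSp m f H :=
  ⟨_, Or.inl (Or.inr (Or.inl ⟨W, h0, hW, hd, rfl⟩)), le_inf h hI⟩

/-- class 2, non-degenerate decomposition -/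
theorem inSp_of_nddec (hI : H ≤ isoGL f) {t k : ℕ} (D : Fin t → Submodule F (ι → F))
    (hD : IsNondegenerateMDecomposition f k D) (h : H ≤ decompositionStabilizer D) : InSp m f H :=
  ⟨_, Or.inl (Or.inr (Or.inr (Or.inl ⟨t, k, D, hD, rfl⟩))), le_inf h hI⟩

/-- class 2, pair of totally singular subspaces (`|F|` odd) -/
theorem inSp_of_tspair (hI : H ≤ isoGL f) (D : Fin 2 → Submodule F (ι → F)) (ho : Odd (Fintype.card F))
    (hD : IsMDecomposition m D) (hts : ∀ i, IsTotallySingularFor f (D i))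
    (h : H ≤ decompositionStabilizer D) : InSp m f H :=
  ⟨_, Or.inl (Or.inr (Or.inr (Or.inr (Or.inl ⟨D, ho, hD, hts, rfl⟩)))), le_inf h hI⟩

/-- class 5 -/
theorem inSp_of_subfield (hI : H ≤ isoGL f) (F₀ : Subfield F) {r : ℕ} (hr : r.Prime)
    (hc : Fintype.card F = Nat.card F₀ ^ r) (P : GL ι F) (ζ : F) (hζ : ζ ≠ 0)
    (hrat : IsFormRationalStructure f F₀ ζ P) (h : H ≤ subfieldSubgroup F₀ P) : InSp m f H :=
  ⟨_, Or.inl (Or.inr (Or.inr (Or.inr (Or.inr (Or.inl ⟨F₀, r, P, ζ, hr, hc, hζ, hrat, rfl⟩))))), le_inf h hI⟩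

/-- class 6 -/
theorem inSp_of_sympl (hI : H ≤ isoGL f) (R : Subgroup (GL ι F)) {p k : ℕ} (hR : IsSymplecticTypeGroup 2 R)
    (hA : ActsAbsolutelyIrreducibly (matrixSet R)) (hRf : R ≤ similarityGroup f) (hp : p.Prime) (hpo : Odd p)
    (hc : Fintype.card F = p) (hcard : Nat.card R = 2 ^ (1 + 2 * k)) (hz : Nat.card (Subgroup.center R) = 2)
    (hminus : IsOfMinusType k R) (h : H ≤ subgroupNormalizer R) : InSp m f H :=
  ⟨_, Or.inl (Or.inr (Or.inr (Or.inr (Or.inr (Or.inr (Or.inl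
    ⟨R, p, k, hR, hA, hRf, hp, hpo, hc, hcard, hz, hminus, rfl⟩)))))), le_inf h hI⟩

/-- class 8 (`|F|` even) -/
theorem inSp_of_quad (hI : H ≤ isoGL f) (Q : (ι → F) → F) (he : ¬ Odd (Fintype.card F))
    (hQ : IsNondegenerateQuadraticForm Q) (hpol : ∀ u v, QuadraticMap.polar Q u v = f u v)
    (h : H ≤ quadSimilarityGroup Q) : InSp m f H :=
  ⟨_, Or.inl (Or.inr (Or.inr (Or.inr (Or.inr (Or.inr (Or.inr ⟨Q, he, hQ, hpol, rfl⟩)))))), le_inf h hI⟩

/-- class 3, self-adjoint field -/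
theorem inSp_of_field_sa (hI : H ≤ isoGL f) {r : ℕ} (hr : r.Prime) (K : Subalgebra F (Matrix ι ι F))
    (hK : IsFieldSubalgebra r K) (hsa : IsSelfAdjointFor f K) (halt : ∀ k ∈ K, ∀ v, f (k *ᵥ v) v = 0)
    (h : H ≤ subalgebraNormalizer K) : InSp m f H :=
  ⟨_, Or.inr (Or.inl ⟨r, K, hr, hK, hsa, halt, rfl⟩), le_inf h hI⟩

/-- class 3, quadratic field with non-trivial adjoint (`|F|` odd) -/
theorem inSp_of_field_u (hI : H ≤ isoGL f) (K : Subalgebra F (Matrix ι ι F)) (ho : Odd (Fintype.card F))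
    (hK : IsFieldSubalgebra 2 K) (hac : IsAdjointClosedFor f K) (hnsa : ¬ IsSelfAdjointFor f K)
    (h : H ≤ subalgebraNormalizer K) : InSp m f H :=
  ⟨_, Or.inr (Or.inr (Or.inl ⟨K, ho, hK, hac, hnsa, rfl⟩)), le_inf h hI⟩

/-- class 4 (`|F|` odd) -/
theorem inSp_of_tensor (hI : H ≤ isoGL f) {n₁ n₂ : ℕ} (e : ι ≃ Fin n₁ × Fin n₂) (P : GL ι F)
    (f₁ : (Fin n₁ → F) → (Fin n₁ → F) → F) (f₂ : (Fin n₂ → F) → (Fin n₂ → F) → F)
    (ho : Odd (Fintype.card F)) (h3 : 3 ≤ n₂) (hf₁ : IsSymplecticForm f₁) (hf₂ : IsSymmetricForm f₂)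
    (hT : IsTensorFormStructure id f f₁ f₂ e P) (h : H ≤ tensorProductSubgroup n₁ n₂ e P) : InSp m f H :=
  ⟨_, Or.inr (Or.inr (Or.inr (Or.inl ⟨n₁, n₂, e, P, f₁, f₂, ho, h3, hf₁, hf₂, hT, rfl⟩))), le_inf h hI⟩

/-- class 7 (`|F|` odd, `t` odd) -/
theorem inSp_of_tpower (hI : H ≤ isoGL f) {k t : ℕ} (e : ι ≃ (Fin t → Fin k)) (P : GL ι F)
    (f₁ : (Fin k → F) → (Fin k → F) → F) (ho : Odd (Fintype.card F)) (hto : Odd t) (ht : 3 ≤ t)
    (hex : ¬ (Fintype.card F = 3 ∧ k = 2)) (hf₁ : IsSymplecticForm f₁)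
    (hT : IsTensorPowerFormStructure id f f₁ e P) (h : H ≤ tensorWreathSubgroup k t e P) : InSp m f H :=
  ⟨_, Or.inr (Or.inr (Or.inr (Or.inr ⟨k, t, e, P, f₁, ho, hto, ht, hex, hf₁, hT, rfl⟩))), le_inf h hI⟩

end constructors

end Cfsg.Agent.Lib.Helper18.ASP
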